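import Cfsg.Agent.H483.Rad23.Base
import Cfsg.Agent.AutOrth.Main
import Cfsg.Agent.ClassicalGeometry.OrthSemi
import Cfsg.Agent.H952.SympSemi
import Cfsg.Agent.S1260
import Cfsg.Agent.Prune
set_option linter.all false
prune_inst 0x7f00000000000000000000000000000000000000000000000000000000000000000000000000000000000000000000000000000000000000000000000000000000000000000000000000000000000000003fffffffffffffffffffffffffffbeffbdffffffff
open scoped Cfsg.Agent.FastGrp

/-!
# Similitudes of a quadratic space which are radical (helper112, for S3832, S4336)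

`scal_on` : if `x = Psi γ` is a radical automorphism of `E Q / Z(E Q)` and the linear similitude `γ` normalises the
anisotropic line `⟨w⟩`, then `γ` is scalar on the orthogonal space of `w`.
-/

set_option autoImplicit false
set_option linter.unusedSectionVars false

namespace Cfsg.Agent.H112.Row2.OrthExt

open QuadraticMap Module Cfsg.Agent.LieClassical.OrthCore Cfsg.Agent.LieClassical.OrthTrans
  Cfsg.Agent.LieClassical.OrthSimple Cfsg.Agent.LieClassical.OrthFinite
open Cfsg.Agent.ClassicalGeometry.OrthAut1 (P center_scalar)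
open Cfsg.Agent.ClassicalGeometry.OrthSemi
open Cfsg.Agent.H459.Rad

section ext

variable {F V : Type*} [Field F] [AddCommGroup V] [Module F V] {Q : QuadraticForm F V} {U W : Submodule F V}

/-- extension by the identity on `W` -/
noncomputable def ext (h : IsCompl U W) : (U ≃ₗ[F] U) →* (V ≃ₗ[F] V) where
  toFun A := (Submodule.prodEquivOfIsCompl U W h).symm.trans
    ((A.prodCongr (LinearEquiv.refl F W)).trans (Submodule.prodEquivOfIsCompl U W h))
  map_one' := by
    apply LinearEquiv.ext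
    intro v
    rw [LinearEquiv.trans_apply, LinearEquiv.trans_apply]
    show (Submodule.prodEquivOfIsCompl U W h) ((Submodule.prodEquivOfIsCompl U W h).symm v) = v
    rw [LinearEquiv.apply_symm_apply]
  map_mul' A B := by
    apply LinearEquiv.ext
    intro v
    rw [LinearEquiv.mul_apply]
    simp only [LinearEquiv.trans_apply, LinearEquiv.symm_apply_apply]
    rfl

theorem ext_add (h : IsCompl U W) (A : U ≃ₗ[F] U) (u : U) (w : W) : ext h A ((u : V) + w) = (A u : V) + w := by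
  have h1 : (Submodule.prodEquivOfIsCompl U W h).symm ((u : V) + w) = (u, w) := by
    rw [LinearEquiv.symm_apply_eq]
    rfl
  show (Submodule.prodEquivOfIsCompl U W h) ((A.prodCongr (LinearEquiv.refl F W))
    ((Submodule.prodEquivOfIsCompl U W h).symm ((u : V) + w))) = _
  rw [h1]
  rfl

theorem ext_left (h : IsCompl U W) (A : U ≃ₗ[F] U) (u : U) : ext h A (u : V) = (A u : V) := by
  have h1 := ext_add h A u 0
  rwa [Submodule.coe_zero, add_zero, add_zero] at h1

theorem ext_right (h : IsCompl U W) (A : U ≃ₗ[F] U) {w : V} (hw : w ∈ W) : ext h A w = w := by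
  have h1 := ext_add h A 0 ⟨w, hw⟩
  rw [map_zero, Submodule.coe_zero] at h1
  simpa using h1

theorem exists_dec (h : IsCompl U W) (v : V) : ∃ (u : U) (w : W), v = (u : V) + w := by
  have h1 : v ∈ U ⊔ W := by rw [h.sup_eq_top]; exact Submodule.mem_top
  obtain ⟨a, ha, b, hb, rfl⟩ := Submodule.mem_sup.1 h1
  exact ⟨⟨a, ha⟩, ⟨b, hb⟩, rfl⟩

theorem ext_eq_iff (h : IsCompl U W) {A : U ≃ₗ[F] U} {g : V ≃ₗ[F] V} :
    ext h A = g ↔ (∀ u : U, g u = (A u : V)) ∧ ∀ w ∈ W, g w = w := by
  constructor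
  · rintro rfl
    exact ⟨fun u => ext_left h A u, fun w hw => ext_right h A hw⟩
  · rintro ⟨h1, h2⟩
    apply LinearEquiv.ext
    intro v
    obtain ⟨u, w, rfl⟩ := exists_dec h v
    rw [ext_add, map_add, h1, h2 _ w.2]

theorem ext_injective (h : IsCompl U W) : Function.Injective (ext h) := by
  intro A B hAB
  apply LinearEquiv.ext
  intro u
  apply Subtype.ext
  rw [← ext_left h, hAB, ext_left]

/-- the restricted form -/
abbrev QU (Q : QuadraticForm F V) (U : Submodule F V) : QuadraticForm F U := Q.comp U.subtype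

theorem QU_apply (u : U) : QU Q U u = Q (u : V) := rfl

theorem polar_QU (u v : U) : polar (QU Q U) u v = polar Q (u : V) v := by
  simp only [polar, QU_apply, Submodule.coe_add]

theorem ext_siegel (h : IsCompl U W) (ho : ∀ u ∈ U, ∀ w ∈ W, polar Q u w = 0) {u v : U} (hu : QU Q U u = 0)
    (hv : polar (QU Q U) u v = 0) (hu' : Q (u : V) = 0) (hv' : polar Q (u : V) v = 0) :
    ext h (siegel (QU Q U) u v hu hv) = siegel Q (u : V) v hu' hv' := by
  rw [ext_eq_iff]
  constructor
  · intro x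
    rw [siegel_apply, siegel_apply, polar_QU, polar_QU, QU_apply]
    rfl
  · intro w hw
    rw [siegel_apply, ho _ u.2 w hw, ho _ v.2 w hw]
    simp

theorem ext_mem_E (h : IsCompl U W) (ho : ∀ u ∈ U, ∀ w ∈ W, polar Q u w = 0) {A : U ≃ₗ[F] U}
    (hA : A ∈ E (QU Q U)) : ext h A ∈ E Q := by
  have h1 : E (QU Q U) ≤ (E Q).comap (ext h) := by
    rw [E, Subgroup.closure_le]
    rintro _ ⟨u, v, hu, hv, rfl⟩
    show ext h _ ∈ E Q
    rw [ext_siegel h ho hu hv hu (by rw [← polar_QU]; exact hv)]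
    exact siegel_mem_E _ _
  exact h1 hA

/-- extension by the identity, on the groups `E` -/
noncomputable def extE (h : IsCompl U W) (ho : ∀ u ∈ U, ∀ w ∈ W, polar Q u w = 0) : ↥(E (QU Q U)) →* ↥(E Q) :=
  ((ext h).comp (E (QU Q U)).subtype).codRestrict (E Q) fun A => ext_mem_E h ho A.2

theorem coe_extE (h : IsCompl U W) (ho : ∀ u ∈ U, ∀ w ∈ W, polar Q u w = 0) (A : ↥(E (QU Q U))) :
    (extE h ho A : V ≃ₗ[F] V) = ext h A.1 := rfl

theorem extE_injective (h : IsCompl U W) (ho : ∀ u ∈ U, ∀ w ∈ W, polar Q u w = 0) :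
    Function.Injective (extE h ho) := by
  intro A B hAB
  apply Subtype.ext
  exact ext_injective h (congrArg Subtype.val hAB)

/-- `E Q` is quasisimple -/
theorem quasisimple_E (hG : Good Q) : Cfsg.IsQuasisimple ↥(E Q) :=
  ⟨⟨commutator_E hG⟩, good_isSimpleGroup hG⟩

/-- restriction of a semisimilitude -/
def rs (γ : Gam Q) (hU : ∀ x, γ.1 x ∈ U ↔ x ∈ U) : Gam (QU Q U) :=
  ⟨γ.1.subtypePerm hU, by
    obtain ⟨σ, c, hγ⟩ := γ.2
    exact ⟨σ, c, hγ.ne, fun u v => Subtype.ext (hγ.add u v), fun a v => Subtype.ext (hγ.smul a v), fun v => hγ.form v⟩⟩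

theorem coe_rs (γ : Gam Q) (hU : ∀ x, γ.1 x ∈ U ↔ x ∈ U) (u : U) : (((rs γ hU).1 u : U) : V) = γ.1 u := rfl

theorem conj_ext (h : IsCompl U W) (γ : Gam Q) (hU : ∀ x, γ.1 x ∈ U ↔ x ∈ U) (hW : ∀ x, γ.1 x ∈ W ↔ x ∈ W)
    (A : U ≃ₗ[F] U) : conjLin γ (ext h A) = ext h (conjLin (rs γ hU) A) := by
  symm
  rw [ext_eq_iff]
  constructor
  · intro u
    obtain ⟨v, rfl⟩ := (rs γ hU).1.surjective u
    rw [conjLin_apply', coe_rs, coe_rs, conjLin_apply', ext_left]
  · intro w hw
    obtain ⟨v, rfl⟩ := γ.1.surjective w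
    rw [conjLin_apply', ext_right h A ((hW v).1 hw)]

theorem scal_on [Finite (P Q)] (hG : Good Q) (h : IsCompl U W) (ho : ∀ u ∈ U, ∀ w ∈ W, polar Q u w = 0)
    (hGU : Good (QU Q U)) (hW0 : W ≠ ⊥) (γ : Gam Q) (hU : ∀ x, γ.1 x ∈ U ↔ x ∈ U) (hW : ∀ x, γ.1 x ∈ W ↔ x ∈ W)
    (hR : RC (Psi Q γ)) : ∃ a : F, ∀ u ∈ U, γ.1 u = a • u := by
  obtain ⟨w0, hw0, hw00⟩ := (Submodule.ne_bot_iff _).1 hW0
  set π : ↥(E Q) →* P Q := QuotientGroup.mk' _ with hπ
  have hsc : ∀ A B : ↥(E Q), π A = π B → ∃ c : F, ∀ v, B.1 v = c • A.1 v := by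
    intro A B hAB
    have h1 : A⁻¹ * B ∈ Subgroup.center ↥(E Q) := QuotientGroup.eq.1 hAB
    obtain ⟨c, hc⟩ := center_scalar hG h1
    refine ⟨c, fun v => ?_⟩
    rw [← map_smul, ← hc v]
    show B.1 v = A.1 (A.1⁻¹ (B.1 v))
    exact (LinearEquiv.apply_symm_apply A.1 _).symm
  have hker : ∀ A B : ↥(E Q), A.1 w0 = w0 → B.1 w0 = w0 → π A = π B → A = B := by
    intro A B hA hB hAB
    obtain ⟨c, hc⟩ := hsc A B hAB
    have h1 := hc w0
    rw [hA, hB] at h1
    have h2 : (c - 1) • w0 = 0 := by rw [sub_smul, ← h1, one_smul, sub_self]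
    have h3 : c = 1 := sub_eq_zero.1 ((smul_eq_zero.1 h2).resolve_right hw00)
    apply Subtype.ext
    apply LinearEquiv.ext
    intro v
    rw [hc v, h3, one_smul]
  have hfix : ∀ A : ↥(E (QU Q U)), (extE h ho A).1 w0 = w0 := fun A => ext_right h A.1 hw0
  have hinj : Function.Injective (π.comp (extE h ho)) := fun A B hAB =>
    extE_injective h ho (hker _ _ (hfix A) (hfix B) hAB)
  have hx : ∀ k ∈ (π.comp (extE h ho)).range, Psi Q γ k ∈ (π.comp (extE h ho)).range := by
    rintro _ ⟨A, rfl⟩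
    refine ⟨conjE (QU Q U) (rs γ hU) A, ?_⟩
    show π _ = π _
    congr 1
    apply Subtype.ext
    exact (conj_ext h γ hU hW A.1).symm
  have htop : (π.comp (extE h ho)).range ≠ ⊤ := by
    intro htop
    obtain ⟨x, y, hxy⟩ := hGU.exists_hyp
    have hx0 : Q (x : V) = 0 := hxy.left
    have hxw : polar Q (x : V) w0 = 0 := ho _ x.2 _ hw0
    have h3 : π ⟨siegel Q (x : V) w0 hx0 hxw, siegel_mem_E hx0 hxw⟩ ∈ (π.comp (extE h ho)).range := by
      rw [htop]; exact Subgroup.mem_top _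
    obtain ⟨A, hA⟩ := h3
    obtain ⟨c, hc⟩ := hsc _ _ hA
    have h4 := hc (y : V)
    have h5 : (extE h ho A).1 (y : V) = (A.1 y : V) := ext_left h A.1 y
    have h6 : polar Q (x : V) y = 1 := by rw [← polar_QU]; exact hxy.pair
    have h7 : polar Q w0 (y : V) = 0 := by rw [polar_comm]; exact ho _ y.2 _ hw0
    rw [h5] at h4
    have h8 : siegel Q (x : V) w0 hx0 hxw (y : V) = (c • A.1 y : U) := h4
    rw [siegel_apply, h6, h7, one_smul, zero_smul, sub_zero] at h8
    have h9 : w0 ∈ U := by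
      have h10 : w0 = ((c • A.1 y : U) : V) - y + (Q w0 * 1) • (x : V) := by
        rw [← h8]
        abel
      rw [h10]
      exact U.add_mem (U.sub_mem (Submodule.coe_mem _) y.2) (U.smul_mem _ x.2)
    exact hw00 (Submodule.disjoint_def.1 h.disjoint w0 h9 hw0)
  have hq : Cfsg.IsQuasisimple ↥(π.comp (extE h ho)).range :=
    S1260.isQuasisimple_of_mulEquiv (MonoidHom.ofInjective hinj) (quasisimple_E hGU)
  have hcon : conjE (QU Q U) (rs γ hU) = 1 := by
    ext1 A
    have h3 : Psi Q γ (π (extE h ho A)) = π (extE h ho A) := hR.eq_of_quasisimple htop hx hq ⟨A, rfl⟩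
    have h4 : Psi Q γ (π (extE h ho A)) = π (extE h ho (conjE (QU Q U) (rs γ hU) A)) := by
      show π _ = π _
      congr 1
      apply Subtype.ext
      exact conj_ext h γ hU hW A.1
    rw [h4] at h3
    exact hinj h3
  obtain ⟨a, -, ha⟩ := exists_scalar_of_conjE hGU (rs γ hU) hcon
  refine ⟨a, fun u hu => ?_⟩
  have h3 := congrArg Subtype.val (ha ⟨u, hu⟩)
  exact h3

end ext

end Cfsg.Agent.H112.Row2.OrthExt

private theorem dce_eb74141d4dd4 : _root_.True := by
  try have : _root_.True := by simp only [_root_.Cfsg.Agent.H112.Row2.OrthExt.ext.congr_simp]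
  exact _root_.True.intro
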